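import Cfsg.Agent.H607.Car.E6Def
import Cfsg.Agent.H129.AO.Dec

/-!
# The automorphisms of `²E₆(q)` over the algebraic closure (S3852, T7 twisted)

* `aut_pow` : automorphisms of finite fields;
* `exists_form` : every automorphism of `²E₆(q)` is `x ↦ s φ_j(x) s⁻¹`, `s ∈ E₆(k)`;
* `autSt_tw` : `AutSt r (em6 q f)`.
-/

set_option autoImplicit false
set_option linter.unusedSectionVars false

namespace Cfsg.Agent.H321.Car

open Cfsg Cfsg.Lie Cfsg.Lie.ChevalleyDatum
open Cfsg.Agent.ChevalleyStructure Cfsg.Agent.ChevalleyStructure.Elts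
open Cfsg.Agent.BpExc Cfsg.Agent.BpExc.LangFr Cfsg.Agent.BpExc.FamUntw
open Cfsg.Agent.H720.TwFr Cfsg.Agent.H607.Car
open Cfsg.Agent.H129.AO Cfsg.Agent.H129.TwE6Fr
open Cfsg.Agent.CpAut.RgdTwE6 (st)

/-- an automorphism of a finite field of characteristic `p` is a power of the Frobenius -/
theorem aut_pow {F : Type*} [Field F] {p : ℕ} [Fact p.Prime] [CharP F p] [Finite F] (τ : F ≃+* F) :
    ∃ l : ℕ, ∀ x : F, τ x = x ^ p ^ l := by
  let _ : Algebra (ZMod p) F := ZMod.algebra F p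
  have hcomm : (τ : F →+* F).comp (algebraMap (ZMod p) F) = algebraMap (ZMod p) F := Subsingleton.elim _ _
  let τ' : F →ₐ[ZMod p] F := { (τ : F →+* F) with commutes' := fun r => RingHom.congr_fun hcomm r }
  have : Fintype F := Fintype.ofFinite F
  obtain ⟨l, hl⟩ := (FiniteField.bijective_frobeniusAlgHom_pow (ZMod p) F).2 τ'
  refine ⟨l, fun x => ?_⟩
  have h1 : ∀ (n : ℕ) (y : F), ((FiniteField.frobeniusAlgHom (ZMod p) F) ^ n) y = y ^ p ^ n := by
    intro n y
    induction n generalizing y with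
    | zero => simp
    | succ n ih =>
      rw [pow_succ', AlgHom.mul_apply, ih, pow_succ]
      show (y ^ p ^ n) ^ Fintype.card (ZMod p) = _
      rw [ZMod.card, ← pow_mul]
  have h2 := DFunLike.congr_fun hl x
  rw [← h1]
  exact h2.symm

section Tw

variable {K : Type} [Field K] [Fintype K] {q r n : ℕ} [Fact r.Prime] [CharP K r] (f : K →+* Kb r)

/-- **Every automorphism of `²E₆(q)` is `x ↦ s φ_j(x) s⁻¹`.** -/
theorem exists_form (hn : q = r ^ n) (hq : IsPrimePow q) (hK : Fintype.card K = q ^ 2)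
    (α : MulAut ↥(twistedE6 K q)) : ∃ (s : Yb r) (j : ℕ),
      ∀ x, em6 q f (α x) = s * phi chevE6 (Kb r) r j (em6 q f x) * s⁻¹ := by
  obtain ⟨φ, hφ, hqq⟩ := TwE6Basic.exists_frob hq hK
  obtain ⟨δ, hδ, τ, rfl⟩ := exists_dec (p := r) (e := n) f hφ hqq hn hq hK α
  obtain ⟨y, -, hy⟩ := (mem_D6 f).1 hδ
  obtain ⟨j, hj⟩ := aut_pow (p := r) τ
  refine ⟨y, j, fun x => ?_⟩
  have h1 : ∀ x, em6 q f x = embT f hq hK x := fun x => rfl
  rw [h1, MulAut.mul_apply, hy]
  congr 2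
  apply Subtype.ext
  apply Units.ext
  rw [phi_coe]
  ext a b
  show f (τ ((x : GL chevE6.Idx K).1 a b)) = (f ((x : GL chevE6.Idx K).1 a b)) ^ r ^ j
  rw [hj, map_pow]

/-- **T7, twisted.** -/
theorem autSt_tw (hn : q = r ^ n) (hq : IsPrimePow q) (hK : Fintype.card K = q ^ 2) : AutSt r (em6 q f) :=
  fun α _ => exists_form f hn hq hK α

end Tw

end Cfsg.Agent.H321.Car
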